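import Groth.Agent.ShBCLib.Basic
import Groth.Agent.FactorOne.Basic
import Groth.Agent.ZClosLib.Basic
import Groth.Agent.PullbackMod.Flat
import Groth.Agent.NakaiLib.Push
import Groth.Agent.IntLib.Push
import Mathlib.LinearAlgebra.TensorProduct.Basis

/-!
# Direct image along a finite extension of the ground field
-/

set_option autoImplicit false
set_option backward.isDefEq.respectTransparency false
set_option linter.style.haveILetI false
set_option maxHeartbeats 1600000

universe u

open CategoryTheory CategoryTheory.Limits AlgebraicGeometry TopologicalSpace Opposite Polynomial TensorProduct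

noncomputable section

namespace Groth.Agent.ShGeomLib

open ShBCLib PullbackMod

variable (k : Type u) [Field k] {X : Scheme.{u}} [X.Over (Spec (CommRingCat.of k))]
  (k' : Type u) [Field k'] [Algebra k k'] [Module.Finite k k']

instance isFinite_bcFst : IsFinite (Curv2.bcFst k X k') := by
  haveI : IsFinite (Spec.map (CommRingCat.ofHom (algebraMap k k'))) :=
    (IsFinite.SpecMap_iff _).2 (RingHom.finite_algebraMap.2 inferInstance)
  exact MorphismProperty.pullback_fst (P := @IsFinite) _ _ inferInstance

/-- Constants of the extended field as functions. -/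
abbrev cst (c : k') : Γ(Curv2.bc k X k', ⊤) := Coh.toGlobal (Curv2.bcSnd k X k') c

/-- Multiplication by a constant of the extended field on a direct image. -/
abbrev pushMul (G : (Curv2.bc k X k').Modules) (c : k') :
    (Scheme.Modules.pushforward (Curv2.bcFst k X k')).obj G ⟶ (Scheme.Modules.pushforward (Curv2.bcFst k X k')).obj G :=
  (Scheme.Modules.pushforward (Curv2.bcFst k X k')).map (FactorOne.mulEnd G (cst k k' c))

theorem pushMul_natural {G G' : (Curv2.bc k X k').Modules} (f : G ⟶ G') (c : k') :
    pushMul k k' G c ≫ (Scheme.Modules.pushforward (Curv2.bcFst k X k')).map f =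
      (Scheme.Modules.pushforward (Curv2.bcFst k X k')).map f ≫ pushMul k k' G' c := by
  rw [← Functor.map_comp, ← Functor.map_comp]
  congr 1
  refine ZClosLib.hom_ext_app fun V s => ?_
  show f.app V ((FactorOne.mulEnd G _).app V s) = (FactorOne.mulEnd G' _).app V (f.app V s)
  rw [FactorOne.mulEnd_app, FactorOne.mulEnd_app]
  exact Scheme.Modules.Hom.app_smul f _ _

/-- The copy of a module in the direct image of its extension attached to a constant. -/
def copy (E : X.Modules) (c : k') : E ⟶ (Scheme.Modules.pushforward (Curv2.bcFst k X k')).obj (bcPull k k' E) :=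
  (Scheme.Modules.pullbackPushforwardAdjunction (Curv2.bcFst k X k')).unit.app E ≫ pushMul k k' (bcPull k k' E) c

/-- The direct sum of the copies attached to the elements of a basis. -/
def copies (E : X.Modules) :
    (⨁ fun _ : Fin (Module.finrank k k') => E) ⟶
      (Scheme.Modules.pushforward (Curv2.bcFst k X k')).obj (bcPull k k' E) :=
  biproduct.desc fun i => copy k k' E (Module.finBasis k k' i)

theorem bijective_copies_app {E : X.Modules} [Coh.IsQCoh E] {V : X.Opens} (hV : IsAffineOpen V) :
    Function.Bijective ((copies k k' E).app V) := by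
  classical
  let n := Module.finrank k k'
  let b := Module.finBasis k k'
  let a : k ≃+* Γ(Spec (CommRingCat.of k), ⊤) :=
    (Scheme.ΓSpecIso (CommRingCat.of k)).symm.commRingCatIsoToRingEquiv
  let e' : k' ≃+* Γ(Spec (CommRingCat.of k'), ⊤) :=
    (Scheme.ΓSpecIso (CommRingCat.of k')).symm.commRingCatIsoToRingEquiv
  let s := Spec.map (CommRingCat.ofHom (algebraMap k k'))
  have hae : ∀ c, s.appTop (a c) = e' (algebraMap k k' c) := fun c =>
    (congr($(Scheme.ΓSpecIso_inv_naturality (CommRingCat.ofHom (algebraMap k k'))) c)).symm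
  obtain ⟨hW', hpo⟩ := isPushout_appLE (IsPullback.of_hasPullback (X ↘ Spec (CommRingCat.of k)) s)
    (isAffineOpen_top _) hV (isAffineOpen_top _) (le_top : V ≤ _) (le_top : (⊤ : (Spec (CommRingCat.of k')).Opens) ≤ _)
  let W' : (Curv2.bc k X k').Opens := Curv2.bcFst k X k' ⁻¹ᵁ V ⊓ Curv2.bcSnd k X k' ⁻¹ᵁ ⊤
  let A₀ := Γ(Spec (CommRingCat.of k), ⊤)
  let A₁ := Γ(Spec (CommRingCat.of k'), ⊤)
  letI : Algebra A₀ Γ(X, V) := ((X ↘ Spec (CommRingCat.of k)).appLE ⊤ V le_top).hom.toAlgebra
  letI : Algebra A₀ A₁ := (s.appLE ⊤ ⊤ le_top).hom.toAlgebra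
  letI : Algebra Γ(X, V) Γ(Curv2.bc k X k', W') := ((Curv2.bcFst k X k').appLE V W' inf_le_left).hom.toAlgebra
  letI : Algebra A₁ Γ(Curv2.bc k X k', W') := ((Curv2.bcSnd k X k').appLE ⊤ W' inf_le_right).hom.toAlgebra
  letI : Algebra A₀ Γ(Curv2.bc k X k', W') := (((Curv2.bcFst k X k').appLE V W' inf_le_left).hom.comp
    ((X ↘ Spec (CommRingCat.of k)).appLE ⊤ V le_top).hom).toAlgebra
  haveI : IsScalarTower A₀ Γ(X, V) Γ(Curv2.bc k X k', W') := .of_algebraMap_eq fun _ => rfl
  haveI : IsScalarTower A₀ A₁ Γ(Curv2.bc k X k', W') := .of_algebraMap_eq' (by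
    show (((X ↘ Spec (CommRingCat.of k)).appLE ⊤ V le_top) ≫ (Curv2.bcFst k X k').appLE V W' inf_le_left).hom =
      ((s.appLE ⊤ ⊤ le_top) ≫ (Curv2.bcSnd k X k').appLE ⊤ W' inf_le_right).hom
    simp only [Scheme.Hom.appLE_comp_appLE, Limits.pullback.condition, s])
  haveI hpo' : Algebra.IsPushout A₀ Γ(X, V) A₁ Γ(Curv2.bc k X k', W') := Algebra.IsPushout.symm hpo
  -- a basis of the functions on the extended field
  have halg : ∀ r : A₀, algebraMap A₀ A₁ r = e' (algebraMap k k' (a.symm r)) := fun r => by
    rw [← hae, RingEquiv.apply_symm_apply]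
    show (s.appLE ⊤ ⊤ le_top).hom r = _
    rw [Scheme.Hom.appLE]
    simp
  let L : A₁ ≃ₗ[A₀] (Fin n → A₀) :=
    { toFun := fun z i => a (b.equivFun (e'.symm z) i)
      invFun := fun f => e' (b.equivFun.symm fun i => a.symm (f i))
      map_add' := fun z w => funext fun i => by simp
      map_smul' := fun r z => funext fun i => by
        have h : e'.symm (r • z) = a.symm r • e'.symm z := by
          rw [Algebra.smul_def, halg, map_mul, RingEquiv.symm_apply_apply, Algebra.smul_def]
        show a (b.equivFun (e'.symm (r • z)) i) = r * a (b.equivFun (e'.symm z) i)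
        rw [h, map_smul, Pi.smul_apply, smul_eq_mul, map_mul, RingEquiv.apply_symm_apply]
      left_inv := fun z => by simp
      right_inv := fun f => funext fun i => by
        show a (b.equivFun (e'.symm (e' _)) i) = f i
        rw [RingEquiv.symm_apply_apply, LinearEquiv.apply_symm_apply, RingEquiv.apply_symm_apply] }
  let β : Module.Basis (Fin n) A₀ A₁ := Module.Basis.ofEquivFun L
  have hβ : ∀ i, β i = e' (b i) := fun i => by
    rw [Module.Basis.coe_ofEquivFun]
    show e' (b.equivFun.symm fun j => a.symm ((Pi.single i (1 : A₀) : Fin n → A₀) j)) = _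
    congr 1
    have : (fun j => a.symm ((Pi.single i (1 : A₀) : Fin n → A₀) j)) = Pi.single i 1 := by
      funext j
      rcases eq_or_ne j i with rfl | hj
      · simp
      · simp [hj]
    rw [this]
    simp [Module.Basis.equivFun_symm_apply, Pi.single_apply]
  let B : Module.Basis (Fin n) Γ(X, V) Γ(Curv2.bc k X k', W') :=
    (Algebra.TensorProduct.basis Γ(X, V) β).map hpo'.out.equiv
  have hB : ∀ i, B i = (Curv2.bcSnd k X k').appLE ⊤ W' inf_le_right (e' (b i)) := fun i => by
    show hpo'.out.equiv ((Algebra.TensorProduct.basis Γ(X, V) β) i) = _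
    rw [Algebra.TensorProduct.basis_apply, IsBaseChange.equiv_tmul, one_smul, hβ]
    rfl
  -- the sections of the inverse image
  obtain ⟨φ, hφ⟩ := exists_pullback_sections_equiv (Curv2.bcFst k X k') E hV hW' (inf_le_left : W' ≤ _)
  let r := (bcPull k k' E).presheaf.map
    (homOfLE (inf_le_left : W' ≤ Curv2.bcFst k X k' ⁻¹ᵁ V)).op
  have hr : Function.Bijective r :=
    res_bijective (bcPull k k' E) _ (le_inf le_rfl fun _ _ => trivial)
  have hu : ∀ (i : Fin n) (m : Γ(E, V)),
      r ((copy k k' E (b i)).app V m) = B i • pullMap (Curv2.bcFst k X k') E (inf_le_left : W' ≤ _) m := fun i m => by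
    show (bcPull k k' E).presheaf.map _ ((FactorOne.mulEnd (bcPull k k' E) (cst k k' (b i))).app _
      (((Scheme.Modules.pullbackPushforwardAdjunction (Curv2.bcFst k X k')).unit.app E).app V m)) = _
    rw [FactorOne.mulEnd_app, Scheme.Modules.map_smul, hB]
    refine congrArg₂ (fun (z : Γ(Curv2.bc k X k', W')) (w : Γ(bcPull k k' E, W')) => z • w) ?_ rfl
    show (Curv2.bc k X k').presheaf.map _ ((Curv2.bc k X k').presheaf.map _
      ((Curv2.bcSnd k X k').appTop (e' (b i)))) = _
    rw [Scheme.Hom.appLE, ← CategoryTheory.comp_apply, ← Functor.map_comp]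
    rfl
  let Sum : (Fin n → Γ(E, V)) → Γ((⨁ fun _ : Fin n => E), V) := fun m =>
    ∑ i, (biproduct.ι (fun _ : Fin n => E) i).app V (m i)
  have happ : ∀ {M N : X.Modules} (f g : M ⟶ N) (x : Γ(M, V)), (f + g).app V x = f.app V x + g.app V x :=
    fun f g x => rfl
  have hsum : ∀ {M N : X.Modules} (f : Fin n → (M ⟶ N)) (x : Γ(M, V)),
      (∑ i, f i).app V x = ∑ i, (f i).app V x := fun {M N} f x =>
    map_sum (AddMonoidHom.mk' (fun g : M ⟶ N => g.app V x) fun g h => happ g h x) f Finset.univ
  have hSum : Function.Surjective Sum := fun x => ⟨fun i => (biproduct.π (fun _ : Fin n => E) i).app V x, by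
    have h := congrArg (fun g : (⨁ fun _ : Fin n => E) ⟶ (⨁ fun _ : Fin n => E) => g.app V x)
      (biproduct.total (f := fun _ : Fin n => E))
    simp only at h
    rw [hsum] at h
    exact h.trans rfl⟩
  have hcomp : ∀ m, r ((copies k k' E).app V (Sum m)) =
      φ ((TensorProduct.equivFinsuppOfBasisLeft B).symm (Finsupp.equivFunOnFinite.symm m)) := fun m => by
    have h1 : (copies k k' E).app V (Sum m) = ∑ i, (copy k k' E (b i)).app V (m i) := by
      show (copies k k' E).app V (∑ i, _) = _
      rw [map_sum]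
      refine Finset.sum_congr rfl fun i _ => ?_
      exact congrArg (fun g : E ⟶ (Scheme.Modules.pushforward (Curv2.bcFst k X k')).obj (bcPull k k' E) => g.app V (m i))
        (biproduct.ι_desc (fun i => copy k k' E (b i)) i)
    rw [h1, TensorProduct.equivFinsuppOfBasisLeft_symm_apply,
      Finsupp.sum_fintype _ _ (fun i => TensorProduct.tmul_zero _ _), map_sum]
    rw [map_sum]
    refine Finset.sum_congr rfl fun i _ => ?_
    rw [hφ]
    exact hu i (m i)
  have hbij : Function.Bijective fun m => r ((copies k k' E).app V (Sum m)) := by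
    simp only [hcomp]
    exact φ.bijective.comp ((LinearEquiv.bijective _).comp (Equiv.bijective _))
  have hSum' : Function.Bijective Sum := ⟨fun x y h => hbij.1 (by simp only [h]), hSum⟩
  have := (Function.Bijective.of_comp_iff' hr _).1 hbij
  exact (Function.Bijective.of_comp_iff _ hSum').1 this

theorem isIso_copies (E : X.Modules) [Coh.IsQCoh E] : IsIso (copies k k' E) :=
  ZClosLib.isIso_of_bijective_affine _ fun _ hV => bijective_copies_app k k' hV

section euler

variable [IsProper (X ↘ Spec (CommRingCat.of k))]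

theorem euler_push_bc (M : (Curv2.bc k X k').Modules) [Coh.IsQCoh M] :
    Curv2.euler k X ((Scheme.Modules.pushforward (Curv2.bcFst k X k')).obj M) =
      (Module.finrank k k' : ℤ) * Curv2.euler k' (Curv2.bc k X k') M := by
  have hfr : ∀ i, Module.finrank k (Coh.HH X ((Scheme.Modules.pushforward (Curv2.bcFst k X k')).obj M) i) =
      Module.finrank k k' * Module.finrank k' (Coh.HH (Curv2.bc k X k') M i) := fun i => by
    obtain ⟨e, he⟩ := ProperFin.exists_pushEquiv (Curv2.bcFst k X k') (M := M)
      (fun _ hV m => CohBase.affine_vanishing M (hV.preimage _) m) i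
    letI : Module k (Coh.HH (Curv2.bc k X k') M i) := Module.compHom _ (algebraMap k k')
    haveI : IsScalarTower k k' (Coh.HH (Curv2.bc k X k') M i) :=
      .of_algebraMap_smul fun _ _ => rfl
    let Le : Coh.HH (Curv2.bc k X k') M i ≃ₗ[k]
        Coh.HH X ((Scheme.Modules.pushforward (Curv2.bcFst k X k')).obj M) i :=
      { e with
        map_smul' := fun c x => by
          show e (Coh.toGlobal (Curv2.bcSnd k X k') (algebraMap k k' c) • x) =
            Coh.toGlobal (X ↘ Spec (CommRingCat.of k)) c • e x
          rw [← he]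
          congr 2
          show ((Scheme.ΓSpecIso (CommRingCat.of k')).inv ≫ (Curv2.bcSnd k X k').appTop) (algebraMap k k' c) =
            ((Scheme.ΓSpecIso (CommRingCat.of k)).inv ≫ (X ↘ Spec (CommRingCat.of k)).appTop ≫
              (Curv2.bcFst k X k').appTop) c
          rw [← Scheme.Hom.comp_appTop, Limits.pullback.condition, Scheme.Hom.comp_appTop, ← Category.assoc,
            ← Scheme.ΓSpecIso_inv_naturality, Category.assoc]
          rfl }
    rw [← Le.finrank_eq, Module.finrank_mul_finrank]
  show ∑ᶠ i, _ = _ * ∑ᶠ i, _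
  rw [← smul_eq_mul, smul_finsum]
  refine finsum_congr fun i => ?_
  rw [hfr i, Nat.cast_mul, smul_eq_mul]
  ring

theorem isHilbPoly_push {L : X.Modules} (hL : PicF.IsInvertible L) {G : (Curv2.bc k X k').Modules}
    (hG : Coh.IsCoh G) {P : ℚ[X]} (hP : ShStab.IsHilbPoly k' (Curv2.bc k X k') (bcPull k k' L) G P) :
    ShStab.IsHilbPoly k X L ((Scheme.Modules.pushforward (Curv2.bcFst k X k')).obj G)
      (C (Module.finrank k k' : ℚ) * P) := fun m => by
  haveI := EulerIneqLib.isNoetherian_proper (X := Curv2.bc k X k') k'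
  have hT : Coh.IsCoh (ShStab.twist (Curv2.bc k X k') (bcPull k k' L) G m) :=
    HilbLib.isCoh_twist (AmpleLib.isInvertible_pullback _ hL) hG m
  haveI := hT.1
  have hLm := AmpleLib.isInvertible_tensorPow hL m
  obtain ⟨p⟩ := Nakai.nonempty_proj (Curv2.bcFst k X k') G (CurveLib.isFinLocFree_of_isInvertible hLm)
  rw [eval_mul, eval_C, ← hP m]
  have := (CurveLib.euler_iso (K := k) (X := X) (AmpleLib.comm _ (CohB1.tensorPow L m) ≪≫ p ≪≫
      (Scheme.Modules.pushforward (Curv2.bcFst k X k')).mapIso
        (AmpleLib.comm _ G ≪≫ AmpleLib.tIso (Iso.refl G) (AmpleLib.pullPow _ L m)))).trans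
    (euler_push_bc k k' (ShStab.twist (Curv2.bc k X k') (bcPull k k' L) G m))
  exact_mod_cast this

end euler

end Groth.Agent.ShGeomLib
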