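import Groth.Agent.ShGeomLib.Spread
import Groth.Agent.ShGeomLib.PushBC
import Groth.Agent.ShStabLib.DimBound
import Groth.Agent.ShStabLib.Hom
import Groth.Agent.EtAlgEasy.PrinPartPush

/-!
# Semistability and stability over an extension of the ground field
-/

set_option autoImplicit false
set_option backward.isDefEq.respectTransparency false
set_option backward.isDefEq.respectTransparency.types false
set_option linter.style.haveILetI false
set_option linter.unusedSectionVars false
set_option maxHeartbeats 1600000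

universe u

open CategoryTheory CategoryTheory.Limits AlgebraicGeometry Polynomial StabCat

noncomputable section

namespace Groth.Agent.ShGeomLib

open ShBCLib ShStabLib

variable (k : Type u) [Field k] {X : Scheme.{u}} [X.Over (Spec (CommRingCat.of k))]
  [IsProper (X ↘ Spec (CommRingCat.of k))] {L E : X.Modules} {d : ℕ}

theorem cr_smul_left (a : ℚ) (P Q : ℚ[X]) : cr d (C a * P) Q = a • cr d P Q := by
  have : alpha d (C a * P) = a * alpha d P := by simp [alpha]; ring
  rw [cr, cr, this, ← smul_eq_C_mul, smul_sub, smul_smul, smul_smul, smul_smul, mul_comm a (alpha d Q)]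

theorem cr_zero_left (Q : ℚ[X]) : cr d 0 Q = 0 := by simp [cr, alpha]

theorem isAmple_bc (hL : CohB1.IsAmple L) (K : Type u) [Field K] [Algebra k K] :
    CohB1.IsAmple (bcPull k K L) := by
  haveI : IsAffineHom (Curv2.bcFst k X K) := MorphismProperty.pullback_fst (P := @IsAffineHom) _ _ inferInstance
  exact AmpleLib.isAmple_pullback _ hL

theorem exists_dimLE {Y : Scheme.{u}} (K : Type u) [Field K] [Y.Over (Spec (CommRingCat.of K))]
    [IsProper (Y ↘ Spec (CommRingCat.of K))] : ∃ N : ℕ, ∀ M : Y.Modules, DimLE N M := by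
  obtain ⟨N, hN⟩ := exists_dim_bound K (X := Y)
  exact ⟨N, fun M => lt_of_le_of_lt Topology.IsInducing.subtypeVal.topologicalKrullDim_le
    (hN.trans (by exact_mod_cast Nat.lt_succ_self N))⟩

/-- A submodule over `K` has the Hilbert polynomial of a submodule over a finite extension. -/
theorem exists_finite_sub (hL : CohB1.IsAmple L) (hE : Coh.IsCoh E) {pE : ℚ[X]} (pe : HP k L E pE)
    (K : Type u) [Field K] [Algebra k K] {F : (Curv2.bc k X K).Modules} (ι : F ⟶ bcPull k K E) [Mono ι]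
    (hF : Coh.IsCoh F) (h0 : ¬ IsZero F) {pF : ℚ[X]} (pf : HP K (bcPull k K L) F pF) :
    ∃ (k' : Type u) (_ : Field k') (_ : Algebra k k'), Module.Finite k k' ∧
      ∃ (G : (Curv2.bc k X k').Modules) (ι' : G ⟶ bcPull k k' E), Mono ι' ∧ Coh.IsCoh G ∧ ¬ IsZero G ∧
        HP k' (bcPull k k' L) G pF := by
  haveI := EulerIneqLib.isNoetherian_proper (X := X) k
  have hLK := isAmple_bc k hL K
  have hEK : Coh.IsCoh (bcPull k K E) := PullbackMod.isCoh_pullback _ E hE
  obtain ⟨N, hN⟩ := exists_dimLE (Y := Curv2.bc k X K) K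
  obtain ⟨pQ, hQ, hadd, hQc, -⟩ := exists_hp_coker K hLK ι hF hEK (hN _) pf (isHilbPoly_bc k K hL.1 hE pe)
  obtain ⟨k', i1, i2, hfin, Q', π', hπ', hQ'c, hQ'⟩ := exists_finite_quotient k hL hE K (cokernel.π ι) hQc hQ
  haveI := hπ'
  obtain ⟨N', hN'⟩ := exists_dimLE (Y := Curv2.bc k X k') k'
  obtain ⟨pG, hG, hadd', hGc, -⟩ := exists_hp_ker k' (isAmple_bc k hL k') π'
    (PullbackMod.isCoh_pullback _ E hE) hQ'c (hN' _) (isHilbPoly_bc k k' hL.1 hE pe) hQ'
  have e : pG = pF := add_right_cancel (hadd'.symm.trans hadd)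
  refine ⟨k', i1, i2, hfin, kernel π', kernel.ι π', inferInstance, hGc, fun hz => h0 ?_, e ▸ hG⟩
  have hp0 : pF = 0 := e ▸ hp_unique k' hG (Q := 0) fun m => by
    rw [eval_zero]; exact HilbLib.chi_isZero k' (isAmple_bc k hL k').1 hz m
  exact isZero_of_hp_zero K hLK hF (hN _) (hp0 ▸ pf)

section family

variable (hL : CohB1.IsAmple L) (hE : ShStab.IsSemistable k X L E d) {pE : ℚ[X]} (pe : HP k L E pE)
include hL hE pe

/-- Submodules of sums of copies of a semistable module. -/
theorem sub_copies (n : ℕ) : ∀ {G : X.Modules} (g : Fin n → (G ⟶ E)), Coh.IsCoh G →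
    (∀ {T : X.Modules} (h : T ⟶ G), (∀ i, h ≫ g i = 0) → h = 0) → ∀ {pG : ℚ[X]}, HP k L G pG →
      pG.degree < ((d + 1 : ℕ) : WithBot ℕ) ∧ 0 ≤ alpha d pG ∧ (¬ IsZero G → 0 < alpha d pG) ∧
        RedLE d pG pE := by
  haveI := EulerIneqLib.isNoetherian_proper (X := X) k
  induction n with
  | zero =>
    intro G g hG hg pG pg
    have hz : IsZero G := (IsZero.iff_id_eq_zero G).2 (hg _ fun i => i.elim0)
    have : pG = 0 := hp_unique k pg fun m => by rw [eval_zero]; exact HilbLib.chi_isZero k hL.1 hz m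
    subst this
    exact ⟨by rw [degree_zero]; exact WithBot.bot_lt_coe _, by rw [alpha_zero], fun h => absurd hz h,
      redLE_of_eq (redEq_iff.2 (cr_zero_left _))⟩
  | succ n ih =>
    intro G g hG hg pG pg
    have hEd := dimLE_of_isPure hE.1 hE.2.2.1
    have hK := (QCohLib.isCoh_kernel_cokernel (g 0) hG hE.1).1
    have hI := isCoh_image' (g 0) hG hE.1
    have hId : DimLE d (Abelian.image (g 0)) := dimLE_of_mono hEd (Abelian.image.ι (g 0))
    obtain ⟨pI, -, hpI⟩ := exists_hp k hL hI hId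
    obtain ⟨N, hN⟩ := exists_dimLE (Y := X) k
    obtain ⟨pK, hpK, hadd, -, -⟩ := exists_hp_ker k hL (Abelian.factorThruImage (g 0)) hG hI (hN _) pg hpI
    let e : kernel (Abelian.factorThruImage (g 0)) ≅ kernel (g 0) :=
      (kernelCompMono (Abelian.factorThruImage (g 0)) (Abelian.image.ι (g 0))).symm ≪≫
        kernelIsoOfEq (Abelian.image.fac (g 0))
    obtain ⟨hd₁, ha₁, hp₁, hr₁⟩ := ih (fun i => kernel.ι (g 0) ≫ g i.succ) hK (fun {T} h hh => by
      rw [← cancel_mono (kernel.ι (g 0)), Limits.zero_comp]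
      refine hg _ fun i => ?_
      refine Fin.cases ?_ (fun j => ?_) i
      · rw [Category.assoc, kernel.condition, Limits.comp_zero]
      · rw [Category.assoc]; exact hh j) (hp_iso k e hpK)
    have hd₂ := degree_lt k hL hI hId hpI
    have ha₂ := alpha_nonneg k hL hI hId hpI
    have hp₂ : ¬ IsZero (Abelian.image (g 0)) → 0 < alpha d pI := fun h =>
      alpha_pos_of_isPure k hL hI h (isPure_of_mono hE.2.2.1 (Abelian.image.ι (g 0))) hpI
    have hr₂ : RedLE d pI pE := by
      by_cases hz : IsZero (Abelian.image (g 0))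
      · rw [hp_unique k hpI (Q := 0) fun m => by rw [eval_zero]; exact HilbLib.chi_isZero k hL.1 hz m]
        exact redLE_of_eq (redEq_iff.2 (cr_zero_left _))
      · exact ss_le k hL hE (Abelian.image.ι (g 0)) hI hz hpI pe
    subst hadd
    refine ⟨HilbLib.degree_lt_add hd₁ hd₂, by rw [alpha_add]; linarith, fun h0 => ?_, ?_⟩
    · rw [alpha_add]
      by_cases hz : IsZero (Abelian.image (g 0))
      · have : ¬ IsZero (kernel (g 0)) := fun hk => h0 <| (IsZero.iff_id_eq_zero G).2 <| by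
          have h0' : g 0 = 0 := by rw [← Abelian.image.fac (g 0), hz.eq_of_src (Abelian.image.ι (g 0)) 0, Limits.comp_zero]
          rw [← kernel.lift_ι (g 0) (𝟙 G) (by rw [h0', Limits.comp_zero]), hk.eq_of_src (kernel.ι (g 0)) 0,
            Limits.comp_zero]
        linarith [hp₁ this]
      · linarith [hp₂ hz]
    · rw [redLE_iff, cr_add_left]
      exact lc_add_nonneg (redLE_iff.1 hr₁) (redLE_iff.1 hr₂)

/-- A nonzero submodule of the same reduced polynomial receives a map from the stable module. -/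
theorem exists_from_stable (hst : ShStab.IsStable k X L E d) (n : ℕ) : ∀ {G : X.Modules} (g : Fin n → (G ⟶ E)),
    Coh.IsCoh G → ¬ IsZero G → (∀ {T : X.Modules} (h : T ⟶ G), (∀ i, h ≫ g i = 0) → h = 0) →
      ∀ {pG : ℚ[X]}, HP k L G pG → RedEq d pG pE → ∃ f : E ⟶ G, f ≠ 0 := by
  haveI := EulerIneqLib.isNoetherian_proper (X := X) k
  induction n with
  | zero => exact fun {G} g _ h0 hg => absurd ((IsZero.iff_id_eq_zero G).2 (hg _ fun i => i.elim0)) h0
  | succ n ih =>
    intro G g hG h0 hg pG pg hred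
    by_cases hk : IsZero (kernel (g 0))
    · haveI : Mono (g 0) := Preadditive.mono_of_isZero_kernel _ hk
      by_cases hi : IsIso (g 0)
      · refine ⟨inv (g 0), fun h => hst.2.1 ((IsZero.iff_id_eq_zero E).2 ?_)⟩
        rw [← IsIso.inv_hom_id (g 0), h, Limits.zero_comp]
      · exact absurd hred (not_redEq_of_lt (st_lt k hL hst (g 0) hG h0 hi pg pe))
    · have hI := isCoh_image' (g 0) hG hE.1
      have hId : DimLE d (Abelian.image (g 0)) :=
        dimLE_of_mono (dimLE_of_isPure hE.1 hE.2.2.1) (Abelian.image.ι (g 0))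
      obtain ⟨pI, -, hpI⟩ := exists_hp k hL hI hId
      obtain ⟨N, hN⟩ := exists_dimLE (Y := X) k
      obtain ⟨pK, hpK, hadd, -, -⟩ := exists_hp_ker k hL (Abelian.factorThruImage (g 0)) hG hI (hN _) pg hpI
      let e : kernel (Abelian.factorThruImage (g 0)) ≅ kernel (g 0) :=
        (kernelCompMono (Abelian.factorThruImage (g 0)) (Abelian.image.ι (g 0))).symm ≪≫
          kernelIsoOfEq (Abelian.image.fac (g 0))
      have hK := (QCohLib.isCoh_kernel_cokernel (g 0) hG hE.1).1
      have hg' : ∀ {T : X.Modules} (h : T ⟶ kernel (g 0)),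
          (∀ i : Fin n, h ≫ kernel.ι (g 0) ≫ g i.succ = 0) → h = 0 := fun {T} h hh => by
        rw [← cancel_mono (kernel.ι (g 0)), Limits.zero_comp]
        refine hg _ fun i => ?_
        refine Fin.cases ?_ (fun j => ?_) i
        · rw [Category.assoc, kernel.condition, Limits.comp_zero]
        · rw [Category.assoc]; exact hh j
      obtain ⟨-, -, -, hr₁⟩ := sub_copies k hL hE pe n (fun i => kernel.ι (g 0) ≫ g i.succ) hK hg' (hp_iso k e hpK)
      have hr₂ : RedLE d pI pE := by
        by_cases hz : IsZero (Abelian.image (g 0))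
        · rw [hp_unique k hpI (Q := 0) fun m => by rw [eval_zero]; exact HilbLib.chi_isZero k hL.1 hz m]
          exact redLE_of_eq (redEq_iff.2 (cr_zero_left _))
        · exact ss_le k hL hE (Abelian.image.ι (g 0)) hI hz hpI pe
      have hred' : RedEq d pK pE := by
        rw [redEq_iff, ← leadingCoeff_eq_zero]
        by_contra hne
        have hsum : cr d pK pE + cr d pI pE = 0 := by rw [← cr_add_left, ← hadd]; exact redEq_iff.1 hred
        have := lc_add_pos (lt_of_le_of_ne (redLE_iff.1 hr₁) (Ne.symm hne)) (redLE_iff.1 hr₂)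
        rw [hsum, leadingCoeff_zero] at this
        exact lt_irrefl _ this
      obtain ⟨f, hf⟩ := ih (fun i => kernel.ι (g 0) ≫ g i.succ) hK hk hg' (hp_iso k e hpK) hred'
      exact ⟨f ≫ kernel.ι (g 0), fun h => hf ((cancel_mono (kernel.ι (g 0))).1 (h.trans Limits.zero_comp.symm))⟩

end family

section ext

variable {k' : Type u} [Field k'] [Algebra k k'] [Module.Finite k k']

/-- The components of a submodule of an extended module. -/
theorem exists_components (hE : Coh.IsCoh E) {G : (Curv2.bc k X k').Modules} (ι : G ⟶ bcPull k k' E) [Mono ι] :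
    ∃ g : Fin (Module.finrank k k') → ((Scheme.Modules.pushforward (Curv2.bcFst k X k')).obj G ⟶ E),
      ∀ {T : X.Modules} (h : T ⟶ (Scheme.Modules.pushforward (Curv2.bcFst k X k')).obj G),
        (∀ i, h ≫ g i = 0) → h = 0 := by
  haveI := hE.1
  haveI := isIso_copies k k' E
  refine ⟨fun i => (Scheme.Modules.pushforward (Curv2.bcFst k X k')).map ι ≫ inv (copies k k' E) ≫
    biproduct.π _ i, fun {T} h hh => ?_⟩
  have h2 : h ≫ (Scheme.Modules.pushforward (Curv2.bcFst k X k')).map ι ≫ inv (copies k k' E) = 0 :=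
    biproduct.hom_ext _ _ fun i => by rw [Limits.zero_comp, Category.assoc, Category.assoc]; exact hh i
  haveI : Mono ((Scheme.Modules.pushforward (Curv2.bcFst k X k')).map ι) := inferInstance
  exact zero_of_comp_mono _ h2

theorem not_isZero_push {G : (Curv2.bc k X k').Modules} (ι : G ⟶ bcPull k k' E) (hG : Coh.IsCoh G)
    (hL : CohB1.IsAmple L) (h0 : ¬ IsZero G) {pG : ℚ[X]} (pg : HP k' (bcPull k k' L) G pG) :
    ¬ IsZero ((Scheme.Modules.pushforward (Curv2.bcFst k X k')).obj G) := fun hz => by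
  haveI := EulerIneqLib.isNoetherian_proper (X := X) k
  have h1 := hp_unique k (isHilbPoly_push k k' hL.1 hG pg) (Q := 0) fun m => by
    rw [eval_zero]; exact HilbLib.chi_isZero k hL.1 hz m
  have hn : (Module.finrank k k' : ℚ) ≠ 0 := Nat.cast_ne_zero.2 Module.finrank_pos.ne'
  obtain ⟨N, hN⟩ := exists_dimLE (Y := Curv2.bc k X k') k'
  exact h0 (isZero_of_hp_zero k' (isAmple_bc k hL k') hG (hN _)
    (((mul_eq_zero.1 h1).resolve_left (fun h => hn (C_eq_zero.1 h))) ▸ pg))

theorem sub_finite (hL : CohB1.IsAmple L) (hE : ShStab.IsSemistable k X L E d) {pE : ℚ[X]} (pe : HP k L E pE)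
    {G : (Curv2.bc k X k').Modules} (ι : G ⟶ bcPull k k' E) [Mono ι] (hG : Coh.IsCoh G) (h0 : ¬ IsZero G)
    {pG : ℚ[X]} (pg : HP k' (bcPull k k' L) G pG) :
    pG.degree < ((d + 1 : ℕ) : WithBot ℕ) ∧ 0 < alpha d pG ∧ RedLE d pG pE := by
  haveI := EulerIneqLib.isNoetherian_proper (X := X) k
  obtain ⟨g, hg⟩ := exists_components k hE.1 ι
  have hGc := EtAlgEasy.PrinPartPush.isCoh_pushforward_finite (Curv2.bcFst k X k') hG
  obtain ⟨hd, -, hp, hr⟩ := sub_copies k hL hE pe _ g hGc hg (isHilbPoly_push k k' hL.1 hG pg)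
  have hn : (0 : ℚ) < (Module.finrank k k' : ℚ) := Nat.cast_pos.2 Module.finrank_pos
  have hα := hp (not_isZero_push k ι hG hL h0 pg)
  refine ⟨?_, ?_, ?_⟩
  · rwa [degree_C_mul hn.ne'] at hd
  · have : alpha d (C (Module.finrank k k' : ℚ) * pG) = (Module.finrank k k' : ℚ) * alpha d pG := by
      simp [alpha]; ring
    rw [this] at hα
    exact pos_of_mul_pos_right hα hn.le
  · rw [redLE_iff, cr_smul_left, lc_smul_nonneg_iff hn] at hr
    exact redLE_iff.2 hr

end ext

variable (hL : CohB1.IsAmple L) (hE : ShStab.IsSemistable k X L E d) (K : Type u) [Field K] [Algebra k K]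
include hL hE

theorem exists_hp_self : ∃ pE : ℚ[X], HP k L E pE := by
  obtain ⟨P, -, hP⟩ := exists_hp k hL hE.1 (dimLE_of_isPure hE.1 hE.2.2.1)
  exact ⟨P, hP⟩

theorem isPure_bc : ShStab.IsPure (Curv2.bc k X K) (bcPull k K E) d := by
  intro F ι _ hF h0
  obtain ⟨pE, pe⟩ := exists_hp_self k hL hE
  obtain ⟨N, hN⟩ := exists_dimLE (Y := Curv2.bc k X K) K
  obtain ⟨pF, -, pf⟩ := exists_hp K (isAmple_bc k hL K) hF (hN F)
  obtain ⟨k', i1, i2, hfin, G, ι', hι', hG, hG0, pg⟩ := exists_finite_sub k hL hE.1 pe K ι hF h0 pf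
  haveI := hι'
  obtain ⟨hd, hα, -⟩ := sub_finite k hL hE pe ι' hG hG0 pg
  rw [dim_eq_natDegree K (isAmple_bc k hL K) hF h0 pf]
  have hc : pF.coeff d ≠ 0 := fun h => by simp [alpha, h] at hα
  rw [le_antisymm (natDegree_le_iff_coeff_eq_zero.2 fun m hm => (degree_lt_iff_coeff_zero pF (d + 1)).1 hd m hm)
    (le_natDegree_of_ne_zero hc)]

theorem isSemistable_bc :
    ShStab.IsSemistable K (Curv2.bc k X K) (bcPull k K L) (bcPull k K E) d := by
  haveI := EulerIneqLib.isNoetherian_proper (X := X) k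
  haveI := flat_bcFst k (X := X) K
  haveI := surjective_bcFst k (X := X) K
  haveI := PullbackMod.faithful_pullback (Curv2.bcFst k X K)
  refine ⟨PullbackMod.isCoh_pullback _ E hE.1,
    fun hz => hE.2.1 ((IsZero.iff_id_eq_zero E).2 ((Scheme.Modules.pullback (Curv2.bcFst k X K)).map_injective
      (hz.eq_of_src _ _))), isPure_bc k hL hE K, fun F ι _ hF h0 _ pF pE' pf pe' => ?_⟩
  obtain ⟨pE, pe⟩ := exists_hp_self k hL hE
  obtain rfl := hp_unique K pe' (isHilbPoly_bc k K hL.1 hE.1 pe)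
  obtain ⟨k', i1, i2, hfin, G, ι', hι', hG, hG0, pg⟩ := exists_finite_sub k hL hE.1 pe K ι hF h0 pf
  haveI := hι'
  exact (sub_finite k hL hE pe ι' hG hG0 pg).2.2

omit hE in
/-- Criterion for stability over `K` by finite extensions. -/
theorem isStable_bc_of_finite (hst : ShStab.IsStable k X L E d)
    (h : ∀ (k' : Type u) [Field k'] [Algebra k k'] [Module.Finite k k'] (G : (Curv2.bc k X k').Modules)
      (ι : G ⟶ bcPull k k' E), Mono ι → Coh.IsCoh G → ¬ IsZero G → ∀ (pG pE : ℚ[X]),
        HP k' (bcPull k k' L) G pG → HP k L E pE → RedEq d pG pE → IsIso ι) :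
    ShStab.IsStable K (Curv2.bc k X K) (bcPull k K L) (bcPull k K E) d := by
  have hE := isSemistable_of_isStable k hL hst
  have hs := isSemistable_bc k hL hE K
  refine ⟨hs.1, hs.2.1, hs.2.2.1, fun F ι _ hF h0 hni pF pE' pf pe' => ?_⟩
  obtain ⟨pE, pe⟩ := exists_hp_self k hL hE
  obtain rfl := hp_unique K pe' (isHilbPoly_bc k K hL.1 hE.1 pe)
  refine (redLT_or_eq (hs.2.2.2 F ι inferInstance hF h0 hni pF _ pf pe')).resolve_right fun heq => hni ?_
  obtain ⟨k', i1, i2, hfin, G, ι', hι', hG, hG0, pg⟩ := exists_finite_sub k hL hE.1 pe K ι hF h0 pf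
  haveI := h k' G ι' hι' hG hG0 pF _ pg pe heq
  obtain rfl := hp_unique k' (hp_iso k' (asIso ι') pg) (isHilbPoly_bc k k' hL.1 hE.1 pe)
  exact isIso_of_hp_eq K (isAmple_bc k hL K) ι hF hs.1 (dimLE_of_isPure hs.1 hs.2.2.1) pf pe'

end Groth.Agent.ShGeomLib
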