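import Groth.Agent.ShBCLib.Basic
import Groth.Agent.PropPi1.LimBC
import Groth.Agent.S4814
import Groth.Agent.S4698
import Groth.Agent.S1026
import Groth.Agent.S4500
import Groth.Agent.CanonFacLib.FibreDeg
import Groth.Agent.DCohMore.RelPerfTerms
import Groth.Agent.DCohLib.PerfLocFree
import Groth.Agent.PullbackMod.Flat

/-!
# A quotient over an extension of the ground field has the Hilbert polynomial of one over a finite extension
-/

set_option autoImplicit false
set_option backward.isDefEq.respectTransparency false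
set_option backward.isDefEq.respectTransparency.types false
set_option linter.style.haveILetI false
set_option maxHeartbeats 1600000

universe u

open CategoryTheory CategoryTheory.Limits AlgebraicGeometry TopologicalSpace Opposite Polynomial

noncomputable section

namespace Groth.Agent.ShGeomLib

open PropPi1 ShBCLib

variable (k : Type u) [Field k] {X : Scheme.{u}} [X.Over (Spec (CommRingCat.of k))]
  [IsProper (X ↘ Spec (CommRingCat.of k))]

/-- Euler characteristics of the twists of the fibres of a flat family over a connected base. -/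
theorem euler_twist_eq {S Y : Scheme.{u}} (q : Y ⟶ S) [IsProper q] [IsLocallyNoetherian S] [PreconnectedSpace S]
    {M : Y.Modules} (hM : Coh.IsCoh M) (hfl : FlatMod.IsFlatOver q M) {LY : Y.Modules} (hLY : PicF.IsInvertible LY)
    {K₁ K₂ : Type u} [Field K₁] [Field K₂] {Z₁ Z₂ : Scheme.{u}} [Z₁.Over (Spec (CommRingCat.of K₁))]
    [Z₂.Over (Spec (CommRingCat.of K₂))] {a₁ : Spec (CommRingCat.of K₁) ⟶ S} {a₂ : Spec (CommRingCat.of K₂) ⟶ S}
    {o₁ : Z₁ ⟶ Y} {o₂ : Z₂ ⟶ Y}
    (h₁ : IsPullback o₁ (Z₁ ↘ Spec (CommRingCat.of K₁)) q a₁)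
    (h₂ : IsPullback o₂ (Z₂ ↘ Spec (CommRingCat.of K₂)) q a₂)
    {M₁ L₁ : Z₁.Modules} (eM₁ : (Scheme.Modules.pullback o₁).obj M ≅ M₁)
    (eL₁ : (Scheme.Modules.pullback o₁).obj LY ≅ L₁)
    {M₂ L₂ : Z₂.Modules} (eM₂ : (Scheme.Modules.pullback o₂).obj M ≅ M₂)
    (eL₂ : (Scheme.Modules.pullback o₂).obj LY ≅ L₂) (m : ℕ) :
    Curv2.euler K₁ Z₁ (ShStab.twist Z₁ L₁ M₁ m) = Curv2.euler K₂ Z₂ (ShStab.twist Z₂ L₂ M₂ m) := by
  haveI : IsLocallyNoetherian Y := LocallyOfFiniteType.isLocallyNoetherian q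
  haveI : LocallyOfFinitePresentation q := inferInstance
  haveI hp1 : IsProper (Z₁ ↘ Spec (CommRingCat.of K₁)) := MorphismProperty.of_isPullback (P := @IsProper) h₁ inferInstance
  haveI hp2 : IsProper (Z₂ ↘ Spec (CommRingCat.of K₂)) := MorphismProperty.of_isPullback (P := @IsProper) h₂ inferInstance
  have hT : Coh.IsCoh (ShStab.twist Y LY M m) := HilbLib.isCoh_twist hLY hM m
  haveI := hT.1
  have hflT : FlatMod.IsFlatOver q (ShStab.twist Y LY M m) := fun x => by
    haveI := (DCohLib.free_finite_stalk_of_flf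
      (CurveLib.isFinLocFree_of_isInvertible (AmpleLib.isInvertible_tensorPow hLY m)) x).1
    exact Groth.Agent.S4500.isFlatOverAt_tmod q x (hfl x)
  have h := (Groth.Agent.S1026.result q (ShStab.twist Y LY M m) (QCohLib.isFP_of_isCoh _ hT) hflT).apply_eq_of_preconnectedSpace
    (a₁ default) (a₂ default)
  simp only at h
  rw [CanonFac.eulerChar_point_mod q h₁ default _, CanonFac.eulerChar_point_mod q h₂ default _] at h
  exact (CurveLib.euler_iso (K := K₁) (X := Z₁) ((AmpleLib.pullTensor o₁ M _) ≪≫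
      AmpleLib.tIso eM₁ (AmpleLib.pullPow o₁ LY m ≪≫ AmpleLib.powCongr eL₁ m)).symm).trans
    (h.trans (CurveLib.euler_iso (K := K₂) (X := Z₂) ((AmpleLib.pullTensor o₂ M _) ≪≫
      AmpleLib.tIso eM₂ (AmpleLib.pullPow o₂ LY m ≪≫ AmpleLib.powCongr eL₂ m))))

section stage

variable (K : Type u) [Field K] [Algebra k K] (A : (FgIdx k K)ᵒᵖ)

/-- The stage of a subalgebra. -/
abbrev stg (A : (FgIdx k K)ᵒᵖ) : Scheme.{u} :=
  (bcDiag (fgToBase k K) (X ↘ Spec (CommRingCat.of k))).obj A

/-- The map of the base change along a point of the stage. -/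
def stgPt (K' : Type u) [Field K'] [Algebra k K'] (ψ : A.unop.1 →ₐ[k] K') : Curv2.bc k X K' ⟶ stg k K A (X := X) :=
  pullback.map _ _ _ _ (𝟙 X) (Spec.map (CommRingCat.ofHom ψ.toRingHom)) (𝟙 _) (by simp)
    (by
      rw [Category.comp_id]
      exact (congrArg Spec.map (CommRingCat.hom_ext (RingHom.ext fun a => (ψ.commutes a).symm))).trans (Spec.map_comp _ _))

theorem stgPt_fst (K' : Type u) [Field K'] [Algebra k K'] (ψ : A.unop.1 →ₐ[k] K') :
    stgPt k K A K' ψ ≫ pullback.fst _ _ = Curv2.bcFst k X K' :=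
  (pullback.lift_fst _ _ _).trans (Category.comp_id _)

theorem stgPt_snd (K' : Type u) [Field K'] [Algebra k K'] (ψ : A.unop.1 →ₐ[k] K') :
    stgPt k K A K' ψ ≫ pullback.snd _ _ = Curv2.bcSnd k X K' ≫ Spec.map (CommRingCat.ofHom ψ.toRingHom) :=
  pullback.lift_snd _ _ _

theorem isPullback_stgPt (K' : Type u) [Field K'] [Algebra k K'] (ψ : A.unop.1 →ₐ[k] K') :
    IsPullback (stgPt k K A K' ψ (X := X)) (Curv2.bcSnd k X K')
      (pullback.snd (X ↘ Spec (CommRingCat.of k)) ((fgToBase k K).app A))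
      (Spec.map (CommRingCat.ofHom ψ.toRingHom)) := by
  refine IsPullback.of_right ?_ (stgPt_snd k K A K' ψ) (IsPullback.of_hasPullback _ _)
  rw [stgPt_fst]
  have e : Spec.map (CommRingCat.ofHom ψ.toRingHom) ≫ (fgToBase k K).app A =
      Spec.map (CommRingCat.ofHom (algebraMap k K')) :=
    (Spec.map_comp _ _).symm.trans (congrArg Spec.map (CommRingCat.hom_ext (RingHom.ext fun a => ψ.commutes a)))
  rw [e]
  exact IsPullback.of_hasPullback _ _

theorem stgPt_val : stgPt k K A K A.unop.1.val (X := X) =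
    (bcCone (fgToBase k K) (X ↘ Spec (CommRingCat.of k)) (fgCone k K) _ (fgCone_toBase k K)).π.app A :=
  rfl

end stage

/-- A quotient over `K` has the Hilbert polynomial of a quotient over a finite extension of `k`. -/
theorem exists_finite_quotient {L E : X.Modules} (hL : CohB1.IsAmple L) (hE : Coh.IsCoh E)
    (K : Type u) [Field K] [Algebra k K] {Q : (Curv2.bc k X K).Modules} (π : bcPull k K E ⟶ Q) [Epi π]
    (hQ : Coh.IsCoh Q) {P : ℚ[X]} (hP : ShStab.IsHilbPoly K (Curv2.bc k X K) (bcPull k K L) Q P) :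
    ∃ (k' : Type u) (_ : Field k') (_ : Algebra k k'), Module.Finite k k' ∧
      ∃ (Q' : (Curv2.bc k X k').Modules) (π' : bcPull k k' E ⟶ Q'), Epi π' ∧ Coh.IsCoh Q' ∧
        ShStab.IsHilbPoly k' (Curv2.bc k X k') (bcPull k k' L) Q' P := by
  haveI := EulerIneqLib.isNoetherian_proper (X := X) k
  haveI := hE.1
  haveI := hQ.1
  let c := bcCone (fgToBase k K) (X ↘ Spec (CommRingCat.of k)) (fgCone k K) _ (fgCone_toBase k K)
  obtain ⟨hc⟩ := nonempty_isLimit_bcCone (fgToBase k K) (X ↘ Spec (CommRingCat.of k)) (fgCone k K) _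
    (fgCone_toBase k K) (isLimitFgCone k K)
  let i₀ : (FgIdx k K)ᵒᵖ := op ⟨⊥, Subalgebra.fg_bot⟩
  let fst₀ : stg k K i₀ (X := X) ⟶ X := pullback.fst _ _
  haveI : QuasiCompact (pullback.snd (X ↘ Spec (CommRingCat.of k)) ((fgToBase k K).app i₀)) := inferInstance
  haveI : CompactSpace ((bcDiag (fgToBase k K) (X ↘ Spec (CommRingCat.of k))).obj i₀) :=
    QuasiCompact.compactSpace_of_compactSpace (pullback.snd (X ↘ Spec (CommRingCat.of k)) ((fgToBase k K).app i₀))
  haveI : QuasiSeparatedSpace ((bcDiag (fgToBase k K) (X ↘ Spec (CommRingCat.of k))).obj i₀) :=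
    quasiSeparatedSpace_of_quasiSeparated (pullback.snd (X ↘ Spec (CommRingCat.of k)) ((fgToBase k K).app i₀))
  let F₀ := (Scheme.Modules.pullback fst₀).obj E
  haveI : Coh.IsQCoh F₀ := PullbackMod.isQCoh_pullback _ _
  have hfst₀ : c.π.app i₀ ≫ fst₀ = Curv2.bcFst k X K := stgPt_fst k K i₀ K i₀.unop.1.val
  let α : (Scheme.Modules.pullback (c.π.app i₀)).obj F₀ ≅ bcPull k K E :=
    (Scheme.Modules.pullbackComp (c.π.app i₀) fst₀).app E ≪≫ (Scheme.Modules.pullbackCongr hfst₀).app E
  haveI : Epi (α.hom ≫ π) := inferInstance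
  obtain ⟨j, φ, G, hGq, pj, e, hGfp, hpj, -⟩ := Groth.Agent.S4814.result
    (bcDiag (fgToBase k K) (X ↘ Spec (CommRingCat.of k))) c hc i₀ F₀
    (PullbackMod.isFP_pullback fst₀ E (QCohLib.isFP_of_isCoh _ hE))
    (G := Q) (QCohLib.isFP_of_isCoh _ hQ) (α.hom ≫ π)
  haveI := hGq
  haveI := hpj
  -- the stage
  let A := j.unop.1
  let qj : stg k K j (X := X) ⟶ Spec (CommRingCat.of A) := pullback.snd _ _
  let fstj : stg k K j (X := X) ⟶ X := pullback.fst _ _
  haveI : Algebra.FiniteType k A := (Subalgebra.fg_iff_finiteType _).1 j.unop.2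
  haveI : IsNoetherianRing A := Algebra.FiniteType.isNoetherianRing k A
  haveI : IsProper qj := MorphismProperty.pullback_snd (P := @IsProper) _ _ inferInstance
  haveI : IsLocallyNoetherian (stg k K j (X := X)) := LocallyOfFiniteType.isLocallyNoetherian qj
  have hG : Coh.IsCoh G := (QCohLib.isCoh_iff_isFP G).2 hGfp
  obtain ⟨U, hU, hflat⟩ := Groth.Agent.S4698.result qj G hG
  -- a closed point of the open set
  haveI : IsJacobsonRing A := isJacobsonRing_of_finiteType (A := k)
  obtain ⟨m, hmU, hm⟩ : ∃ m : PrimeSpectrum A, m ∈ (U : Set (Spec (CommRingCat.of A))) ∧ m.asIdeal.IsMaximal := by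
    obtain ⟨m, hm1, hm2⟩ := PrimeSpectrum.exists_isClosed_singleton_of_isJacobsonRing _ U.2 hU
    exact ⟨m, hm1, (PrimeSpectrum.isClosed_singleton_iff_isMaximal m).1 hm2⟩
  haveI := hm
  let k' := A ⧸ m.asIdeal
  letI : Field k' := Ideal.Quotient.field m.asIdeal
  haveI : Algebra.FiniteType k k' :=
    Algebra.FiniteType.of_surjective (Ideal.Quotient.mkₐ k m.asIdeal) (Ideal.Quotient.mkₐ_surjective k m.asIdeal)
  haveI : Module.Finite k k' := finite_of_finite_type_of_isJacobsonRing k k'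
  refine ⟨k', inferInstance, inferInstance, inferInstance, ?_⟩
  -- the family over the open set
  let qU : (qj ⁻¹ᵁ U : (stg k K j (X := X)).Opens).toScheme ⟶ (U : Scheme.{u}) := qj ∣_ U
  let iU := (qj ⁻¹ᵁ U : (stg k K j (X := X)).Opens).ι
  haveI : IsProper qU := MorphismProperty.of_isPullback (P := @IsProper) (isPullback_morphismRestrict qj U).flip inferInstance
  haveI : IsLocallyNoetherian (qj ⁻¹ᵁ U : (stg k K j (X := X)).Opens).toScheme :=
    LocallyOfFiniteType.isLocallyNoetherian iU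
  let M := (Scheme.Modules.pullback iU).obj G
  have hM : Coh.IsCoh M := PullbackMod.isCoh_pullback _ G hG
  have hMfl : FlatMod.IsFlatOver qU M := fun y =>
    PullbackMod.isFlatOverAt_baseChange (isPullback_morphismRestrict qj U).flip G y (hflat _ y.2)
  haveI : PreconnectedSpace (U : Scheme.{u}) := by
    haveI : IsIntegral (U : Scheme.{u}) := by
      haveI : Nonempty (U : Scheme.{u}) := ⟨⟨m, hmU⟩⟩
      exact isIntegral_of_isOpenImmersion U.ι
    infer_instance
  let LU := (Scheme.Modules.pullback (iU ≫ fstj)).obj L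
  have hLU : PicF.IsInvertible LU := AmpleLib.isInvertible_pullback _ hL.1
  -- points over the open set
  have key : ∀ (K' : Type u) [Field K'] [Algebra k K'] (ψ : A →ₐ[k] K'),
      Spec.map (CommRingCat.ofHom ψ.toRingHom) default ∈ U →
      ∃ (o : Curv2.bc k X K' ⟶ (qj ⁻¹ᵁ U : (stg k K j (X := X)).Opens).toScheme) (a : Spec (CommRingCat.of K') ⟶ U),
        IsPullback o (Curv2.bcSnd k X K') qU a ∧ o ≫ iU = stgPt k K j K' ψ := fun K' _ _ ψ hψ => by
    have hr : Set.range (Spec.map (CommRingCat.ofHom ψ.toRingHom)) ⊆ Set.range U.ι := by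
      rintro _ ⟨z, rfl⟩
      rw [Scheme.Opens.range_ι, Subsingleton.elim z default]
      exact hψ
    let a : Spec (CommRingCat.of K') ⟶ U := IsOpenImmersion.lift U.ι _ hr
    have ha : a ≫ U.ι = Spec.map (CommRingCat.ofHom ψ.toRingHom) := IsOpenImmersion.lift_fac _ _ _
    have hP' := isPullback_stgPt k K j K' ψ (X := X)
    rw [← ha] at hP'
    let o := (isPullback_morphismRestrict qj U).flip.lift (stgPt k K j K' ψ) (Curv2.bcSnd k X K' ≫ a)
      (by rw [Category.assoc]; exact hP'.w)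
    have ho : o ≫ iU = stgPt k K j K' ψ := (isPullback_morphismRestrict qj U).flip.lift_fst _ _ _
    refine ⟨o, a, ?_, ho⟩
    refine IsPullback.of_right ?_ ((isPullback_morphismRestrict qj U).flip.lift_snd _ _ _)
      (isPullback_morphismRestrict qj U).flip
    rw [ho]
    exact hP'
  obtain ⟨o₁, a₁, hP₁, ho₁⟩ := key K A.val (by
    have hdense : Spec.map (CommRingCat.ofHom A.val.toRingHom) default ⤳ m := by
      rw [← PrimeSpectrum.le_iff_specializes]
      intro x hx
      have hx0 : A.val x = 0 := by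
        have := (Ideal.eq_bot_or_top (default : Spec (CommRingCat.of K)).asIdeal).resolve_right
          (default : Spec (CommRingCat.of K)).2.ne_top
        have hx' : A.val x ∈ (default : Spec (CommRingCat.of K)).asIdeal := hx
        rwa [this] at hx'
      rw [show x = 0 from Subtype.ext hx0]
      exact zero_mem _
    exact hdense.mem_open U.2 hmU)
  obtain ⟨o₂, a₂, hP₂, ho₂⟩ := key k' (Ideal.Quotient.mkₐ k m.asIdeal) (by
    have : Spec.map (CommRingCat.ofHom (Ideal.Quotient.mkₐ k m.asIdeal).toRingHom) default = m := by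
      refine PrimeSpectrum.ext ?_
      show Ideal.comap (Ideal.Quotient.mk m.asIdeal) (default : Spec (CommRingCat.of k')).asIdeal = m.asIdeal
      rw [(Ideal.eq_bot_or_top (default : Spec (CommRingCat.of k')).asIdeal).resolve_right
        (default : Spec (CommRingCat.of k')).2.ne_top, ← RingHom.ker_eq_comap_bot, Ideal.mk_ker]
    rw [this]
    exact hmU)
  -- the quotient over the finite extension
  let s₂ := stgPt k K j k' (Ideal.Quotient.mkₐ k m.asIdeal) (X := X)
  let Q' := (Scheme.Modules.pullback s₂).obj G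
  have hb : s₂ ≫ (bcDiag (fgToBase k K) (X ↘ Spec (CommRingCat.of k))).map φ ≫ fst₀ = Curv2.bcFst k X k' := by
    refine Eq.trans ?_ (stgPt_fst k K j k' (Ideal.Quotient.mkₐ k m.asIdeal))
    congr 1
    exact (pullback.lift_fst _ _ _).trans (Category.comp_id _)
  let β : bcPull k k' E ≅ (Scheme.Modules.pullback s₂).obj
      ((Scheme.Modules.pullback ((bcDiag (fgToBase k K) (X ↘ Spec (CommRingCat.of k))).map φ)).obj F₀) :=
    (Scheme.Modules.pullbackCongr hb).symm.app E ≪≫
      ((Scheme.Modules.pullbackComp s₂ _).symm.app E) ≪≫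
      (Scheme.Modules.pullback s₂).mapIso ((Scheme.Modules.pullbackComp _ fst₀).symm.app E)
  haveI : Epi ((Scheme.Modules.pullback s₂).map pj) := inferInstance
  refine ⟨Q', β.hom ≫ (Scheme.Modules.pullback s₂).map pj, inferInstance, PullbackMod.isCoh_pullback _ G hG,
    fun n => ?_⟩
  rw [← hP n]
  exact congrArg (fun z : ℤ => (z : ℚ)) (euler_twist_eq qU hM hMfl hLU hP₂ hP₁
    ((Scheme.Modules.pullbackComp o₂ iU).app G ≪≫ (Scheme.Modules.pullbackCongr ho₂).app G)
    ((Scheme.Modules.pullbackComp o₂ (iU ≫ fstj)).app L ≪≫ (Scheme.Modules.pullbackCongr (by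
      rw [← Category.assoc, ho₂]; exact stgPt_fst k K j k' _)).app L)
    ((Scheme.Modules.pullbackComp o₁ iU).app G ≪≫ (Scheme.Modules.pullbackCongr ho₁).app G ≪≫ e)
    ((Scheme.Modules.pullbackComp o₁ (iU ≫ fstj)).app L ≪≫ (Scheme.Modules.pullbackCongr (by
      rw [← Category.assoc, ho₁]; exact stgPt_fst k K j K _)).app L) n)

end Groth.Agent.ShGeomLib
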